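import Groth.Agent.L05.GoingDown.FiniteNormal
import Groth.Agent.L20.FlatStalk
import Groth.Agent.L15.CohFlat
import Mathlib.AlgebraicGeometry.Morphisms.Flat
import Mathlib.AlgebraicGeometry.Noetherian
import Mathlib.RingTheory.Flat.TorsionFree
import Mathlib.Topology.NoetherianSpace

/-!
# Finite dominant morphisms to normal schemes are flat outside codimension two
-/

set_option autoImplicit false
set_option linter.style.haveILetI false

universe u

open CategoryTheory AlgebraicGeometry TopologicalSpace

namespace Groth.L05.CodimFlat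

variable {X Y : Scheme.{u}} [IsIntegral X] [IsIntegral Y] (f : X ⟶ Y) [IsFinite f] [Surjective f]

theorem map_genericPoint : f (genericPoint X) = genericPoint Y := by
  refine IsGenericPoint.eq ?_ (genericPoint_spec Y)
  have := (genericPoint_spec X).image f.continuous
  rwa [Set.image_univ, f.surjective.range_eq, closure_univ] at this

theorem stalkSpecializes_injective {Z : Scheme.{u}} [IsIntegral Z] {η z : Z} (h : η ⤳ z)
    (hη : η = genericPoint Z) : Function.Injective (Z.presheaf.stalkSpecializes h).hom := by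
  subst hη
  exact IsFractionRing.injective (Z.presheaf.stalk z) Z.functionField

theorem stalkMap_injective (x : X) : Function.Injective (f.stalkMap x).hom := by
  have hs : genericPoint X ⤳ x := genericPoint_specializes x
  have hinj : Function.Injective
      (Y.presheaf.stalkSpecializes (hs.map f.continuous)).hom :=
    stalkSpecializes_injective _ (map_genericPoint f)
  have hfield : IsField (Y.presheaf.stalk (f (genericPoint X))) := by
    rw [map_genericPoint f]; exact Field.toIsField Y.functionField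
  letI := hfield.toField
  haveI : Nontrivial (X.presheaf.stalk (genericPoint X)) := inferInstance
  intro a b h
  apply hinj
  apply (f.stalkMap (genericPoint X)).hom.injective
  rw [Scheme.Hom.stalkSpecializes_stalkMap_apply f _ _ hs, Scheme.Hom.stalkSpecializes_stalkMap_apply f _ _ hs]
  exact congrArg _ h

theorem flat_stalkMap_of_dim_le_one [IsLocallyNoetherian Y]
    (hY : ∀ y : Y, IsDomain (Y.presheaf.stalk y) ∧ IsIntegrallyClosed (Y.presheaf.stalk y))
    (x : X) (hd : ringKrullDim (Y.presheaf.stalk (f x)) ≤ 1) : (f.stalkMap x).hom.Flat := by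
  haveI := (hY (f x)).1
  haveI := (hY (f x)).2
  haveI : Ring.KrullDimLE 1 (Y.presheaf.stalk (f x)) := Ring.krullDimLE_iff.mpr (by exact_mod_cast hd)
  haveI : Ring.DimensionLEOne (Y.presheaf.stalk (f x)) :=
    ⟨fun hp hpp => Ring.krullDimLE_one_iff_of_noZeroDivisors.mp ‹_› _ hp hpp⟩
  haveI : IsDedekindDomain (Y.presheaf.stalk (f x)) :=
    { toIsDomain := inferInstance, toIsDedekindRing := { } }
  algebraize [(f.stalkMap x).hom]
  haveI : FaithfulSMul (Y.presheaf.stalk (f x)) (X.presheaf.stalk x) :=
    (faithfulSMul_iff_algebraMap_injective _ _).mpr (stalkMap_injective f x)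
  show Module.Flat (Y.presheaf.stalk (f x)) (X.presheaf.stalk x)
  infer_instance

theorem coheight_map_le
    (hY : ∀ y : Y, IsDomain (Y.presheaf.stalk y) ∧ IsIntegrallyClosed (Y.presheaf.stalk y))
    (x : X) : Order.coheight (f x) ≤ Order.coheight x := by
  suffices h : ∀ (n : ℕ) (p : LTSeries Y) (x : X), p.length = n → p.head = f x →
      (n : ℕ∞) ≤ Order.coheight x from Order.coheight_le fun p hp => h _ p x rfl hp
  intro n
  induction n with
  | zero => intros; simp
  | succ n ih =>
    intro p x hl hh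
    have hne : p.length ≠ 0 := by omega
    have hlt : f x < (p.tail hne).head := by
      rw [RelSeries.head_tail, ← hh]
      exact p.strictMono (Fin.lt_def.mpr (by simp [Nat.mod_eq_of_lt (show 1 < p.length + 1 by omega)]))
    obtain ⟨w, hw, hfw⟩ := Groth.L05.GoingDown.exists_generization f hY x
      (δ := (p.tail hne).head) hlt.le
    have hxw : x < w := lt_of_le_not_ge hw fun hle => hlt.not_ge (hfw ▸ hle.map f.continuous)
    refine le_trans ?_ (Order.coheight_add_one_le hxw)
    push_cast
    exact add_le_add_left (ih (p.tail hne) w (by simp [hl]) hfw.symm) 1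

theorem finite_of_coheight_eq {Y : Scheme.{u}} [NoetherianSpace Y] {S : Set Y} (hS : IsClosed S)
    (d : ℕ) (h : ∀ y ∈ S, Order.coheight y = (d : ℕ∞)) : S.Finite := by
  obtain ⟨F, hF, hFeq⟩ := NoetherianSpace.exists_finset_irreducible (⟨S, hS⟩ : Closeds Y)
  have hgen : ∀ y ∈ S, ∃ C ∈ F, IsGenericPoint y (C : Set Y) := by
    intro y hy
    have hy' : y ∈ (⟨S, hS⟩ : Closeds Y) := hy
    rw [hFeq, ← SetLike.mem_coe, Closeds.coe_finset_sup] at hy'
    obtain ⟨C, hCF, hyC⟩ : ∃ C ∈ F, y ∈ (C : Set Y) := by simpa using hy'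
    refine ⟨C, hCF, ?_⟩
    obtain ⟨η, hη⟩ := QuasiSober.sober (hF ⟨C, hCF⟩) C.isClosed
    have hηS : η ∈ S := by
      have : C ≤ (⟨S, hS⟩ : Closeds Y) := hFeq ▸ Finset.le_sup (f := id) hCF
      exact this hη.mem
    have hle : y ≤ η := hη.specializes hyC
    by_cases heq : η = y
    swap
    · have hlt : y < η := lt_of_le_not_ge hle fun hge => heq (Specializes.antisymm (show η ⤳ y from hle) (show y ⤳ η from hge)).eq
      have := Order.coheight_add_one_le hlt
      rw [h y hy, h η hηS] at this
      exact absurd this (by norm_cast; omega)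
    exact heq ▸ hη
  choose C hCF hC using hgen
  have : Finite S := Finite.of_injective (fun y : S => (⟨C y.1 y.2, hCF y.1 y.2⟩ : F))
    fun a b hab => Subtype.ext ((hC a.1 a.2).eq (by
      have : C a.1 a.2 = C b.1 b.2 := Subtype.ext_iff.mp hab
      rw [this]; exact hC b.1 b.2))
  exact S.toFinite

theorem exists_open_flat_cofinite [IsNoetherian X] [IsNoetherian Y]
    (hY : ∀ y : Y, IsDomain (Y.presheaf.stalk y) ∧ IsIntegrallyClosed (Y.presheaf.stalk y))
    (hdX : topologicalKrullDim X ≤ 2) (hdY : topologicalKrullDim Y ≤ 2) :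
    ∃ V : Y.Opens, ((V : Set Y)ᶜ).Finite ∧ (∀ y : Y, y ∉ V → ringKrullDim (Y.presheaf.stalk y) = 2) ∧
      (((f ⁻¹ᵁ V : X.Opens) : Set X)ᶜ).Finite ∧
      (∀ x : X, x ∉ f ⁻¹ᵁ V → ringKrullDim (X.presheaf.stalk x) = 2) ∧
      Flat (f ∣_ V) := by
  let N : Set X := {x | (f.stalkMap x).hom.Flat}ᶜ
  have hN : IsClosed N := (Groth.L20.isOpen_flat_stalkMap f).isClosed_compl
  have hS : IsClosed (f '' N) := f.isClosedMap _ hN
  let V : Y.Opens := ⟨(f '' N)ᶜ, hS.isOpen_compl⟩
  have hdim : ∀ x ∈ N, Order.coheight (f x) = ((2 : ℕ) : ℕ∞) := by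
    intro x hx
    refine le_antisymm ?_ ?_
    · have := (Groth.L15.CohFlat.ringKrullDim_stalk_le (f x)).trans hdY
      rw [ringKrullDim_stalk_eq_coheight] at this
      exact WithBot.coe_le_coe.mp this
    · by_contra hlt
      refine hx (flat_stalkMap_of_dim_le_one f hY x ?_)
      rw [ringKrullDim_stalk_eq_coheight]
      push Not at hlt
      have : Order.coheight (f x) ≤ ((1 : ℕ) : ℕ∞) := Order.le_of_lt_add_one (by exact_mod_cast hlt)
      exact_mod_cast this
  have hmem : ∀ y, y ∉ V → Order.coheight y = ((2 : ℕ) : ℕ∞) := by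
    intro y hy
    obtain ⟨x, hx, rfl⟩ : y ∈ f '' N := not_not.mp hy
    exact hdim x hx
  have hfin : ((V : Set Y)ᶜ).Finite :=
    finite_of_coheight_eq V.isOpen.isClosed_compl 2 hmem
  refine ⟨V, hfin, fun y hy => by rw [ringKrullDim_stalk_eq_coheight, hmem y hy]; rfl, ?_, ?_, ?_⟩
  · exact hfin.preimage' fun y _ => f.finite_preimage_singleton y
  · intro x hx
    rw [ringKrullDim_stalk_eq_coheight]
    refine le_antisymm ?_ ?_
    · rw [← ringKrullDim_stalk_eq_coheight]
      exact (Groth.L15.CohFlat.ringKrullDim_stalk_le x).trans hdX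
    · have h2 := coheight_map_le f hY x
      rw [hmem (f x) hx] at h2
      exact WithBot.coe_le_coe.mpr h2
  · refine Flat.of_stalkMap _ fun x => ?_
    refine (RingHom.Flat.respectsIso.arrow_mk_iso_iff (morphismRestrictStalkMap f V x)).mpr ?_
    by_contra hx
    exact x.2 ⟨x.1, hx, rfl⟩

end Groth.L05.CodimFlat
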